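import Mathlib.Algebra.Lie.UniversalEnveloping
import Mathlib.Algebra.Lie.OfAssociative
import Mathlib.Data.Multiset.Sort
import Mathlib.Data.List.Sort
import Mathlib.LinearAlgebra.Finsupp.LinearCombination
import Mathlib.LinearAlgebra.Finsupp.Supported
import Mathlib.LinearAlgebra.Basis.Basic
import Mathlib.Tactic

/-! Poincaré–Birkhoff–Witt: the sorted monomials form a basis of the enveloping algebra. -/

namespace Groth.Agent.PBWLib

attribute [local instance 100] LieRing.ofAssociativeRing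

universe u v w

variable {R : Type u} [CommRing R] {L : Type v} [LieRing L] [LieAlgebra R L] {ι : Type w} [LinearOrder ι]
  (b : Module.Basis ι R L)

open scoped Classical
open Finsupp (linearCombination single)

/-- the monomial indexed by a multiset -/
noncomputable def z (M : Multiset ι) : Multiset ι →₀ R := single M 1

/-- elements of degree at most `n` -/
noncomputable def degLE (n : ℕ) : Submodule R (Multiset ι →₀ R) :=
  Finsupp.supported R R {M | M.card ≤ n}

lemma z_mem {M : Multiset ι} {n : ℕ} (h : M.card ≤ n) : z M ∈ degLE (R := R) (ι := ι) n :=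
  Finsupp.single_mem_supported R 1 h

lemma degLE_mono {m n : ℕ} (h : m ≤ n) : degLE (R := R) (ι := ι) m ≤ degLE n :=
  Finsupp.supported_mono fun _ hM => le_trans (α := ℕ) hM h

lemma eq_on_degLE {W : Type*} [AddCommGroup W] [Module R W] {n : ℕ}
    {f g : (Multiset ι →₀ R) →ₗ[R] W} (h : ∀ M : Multiset ι, M.card ≤ n → f (z M) = g (z M))
    {v : Multiset ι →₀ R} (hv : v ∈ degLE n) : f v = g v := by
  rw [degLE, Finsupp.supported_eq_span_single] at hv
  refine LinearMap.eqOn_span ?_ hv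
  rintro _ ⟨M, hM, rfl⟩
  exact h M hM

lemma lc_z {W : Type*} [AddCommGroup W] [Module R W] (f : Multiset ι → W) (M : Multiset ι) :
    linearCombination R f (z M) = f M := by simp [z]

lemma lc_mem {f : Multiset ι → (Multiset ι →₀ R)} {n : ℕ} {P : Submodule R (Multiset ι →₀ R)}
    (h : ∀ M : Multiset ι, M.card ≤ n → f M ∈ P) {v : Multiset ι →₀ R} (hv : v ∈ degLE n) :
    linearCombination R f v ∈ P := by
  rw [Finsupp.linearCombination_apply]
  exact Submodule.sum_mem P fun M hM =>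
    P.smul_mem _ (h M ((Finsupp.mem_supported R v).1 hv hM))

lemma exists_min {i : ι} {M : Multiset ι} (h : ¬ ∀ j ∈ M, i ≤ j) :
    ∃ j ∈ M, (∀ k ∈ M, j ≤ k) ∧ j < i := by
  push Not at h
  obtain ⟨j₀, hj₀, hlt⟩ := h
  have hne : M.toFinset.Nonempty := ⟨j₀, Multiset.mem_toFinset.2 hj₀⟩
  exact ⟨M.toFinset.min' hne, Multiset.mem_toFinset.1 (M.toFinset.min'_mem hne),
    fun k hk => M.toFinset.min'_le k (Multiset.mem_toFinset.2 hk),
    (M.toFinset.min'_le j₀ (Multiset.mem_toFinset.2 hj₀)).trans_lt hlt⟩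

/-- approximations to the action of a basis vector on a monomial -/
noncomputable def A : ℕ → ι → Multiset ι → (Multiset ι →₀ R)
  | 0, i, M => z (i ::ₘ M)
  | n + 1, i, M =>
    if h : ∀ j ∈ M, i ≤ j then z (i ::ₘ M)
    else z (i ::ₘ M) +
        linearCombination R (A n (exists_min h).choose)
          (A n i (M.erase (exists_min h).choose) - z (i ::ₘ M.erase (exists_min h).choose)) +
        linearCombination R (fun l => A n l (M.erase (exists_min h).choose))
          (b.repr ⁅b i, b (exists_min h).choose⁆)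

lemma A_spec : ∀ (n : ℕ) (i : ι) (M : Multiset ι), M.card ≤ n →
    A b n i M - z (i ::ₘ M) ∈ degLE M.card ∧ A b (n + 1) i M = A b n i M
  | 0, i, M, hM => by
    obtain rfl : M = 0 := Multiset.card_eq_zero.1 (Nat.le_zero.1 hM)
    simp [A]
  | n + 1, i, M, hM => by
    by_cases h : ∀ j ∈ M, i ≤ j
    · simp [A, dif_pos h]
    obtain ⟨hjM, hjle, hjlt⟩ := (exists_min h).choose_spec
    set j := (exists_min h).choose with hj
    set N := M.erase j with hN
    have hcard : N.card + 1 = M.card := by rw [hN, Multiset.card_erase_add_one hjM]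
    have hw := (A_spec n i N (by omega)).1
    have hbound : ∀ (l : ι) (K : Multiset ι), K.card ≤ N.card → A b n l K ∈ degLE M.card := fun l K hK => by
      have h1 := degLE_mono (R := R) (show K.card ≤ M.card by omega) (A_spec n l K (by omega)).1
      simpa using add_mem h1 (z_mem (M := l ::ₘ K) (n := M.card) (by simp; omega))
    refine ⟨?_, ?_⟩
    · rw [A, dif_neg h, add_assoc, add_sub_cancel_left]
      refine add_mem (lc_mem (fun K hK => hbound j K hK) hw) ?_
      rw [Finsupp.linearCombination_apply]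
      exact Submodule.sum_mem _ fun l _ => Submodule.smul_mem _ _ (hbound l N le_rfl)
    · rw [A, dif_neg h]
      conv_rhs => rw [A, dif_neg h]
      rw [← hj, ← hN]
      simp only [fun l => (A_spec n l N (by omega)).2]
      congr 2
      exact eq_on_degLE (fun K hK => by rw [lc_z, lc_z, (A_spec n j K (by omega)).2]) hw

/-- the action of a basis vector on a monomial -/
noncomputable def act (i : ι) (M : Multiset ι) : Multiset ι →₀ R := A b M.card i M

lemma A_eq_act (i : ι) (M : Multiset ι) : ∀ n, M.card ≤ n → A b n i M = act b i M := by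
  intro n hn
  induction n, hn using Nat.le_induction with
  | base => rfl
  | succ m hm ih => rw [(A_spec b m i M hm).2, ih]

lemma act_sub_mem (i : ι) (M : Multiset ι) : act b i M - z (i ::ₘ M) ∈ degLE M.card :=
  (A_spec b _ i M le_rfl).1

lemma act_of_le {i : ι} {M : Multiset ι} (h : ∀ j ∈ M, i ≤ j) : act b i M = z (i ::ₘ M) := by
  rw [← A_eq_act b i M _ (Nat.le_succ _), A, dif_pos h]

/-- the representation on monomials -/
noncomputable def ρ : L →ₗ[R] Module.End R (Multiset ι →₀ R) :=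
  b.constr R fun i => linearCombination R (act b i)

lemma ρ_b (i : ι) (M : Multiset ι) : ρ b (b i) (z M) = act b i M := by
  simp [ρ, z]

lemma ρ_z (x : L) (M : Multiset ι) :
    ρ b x (z M) = linearCombination R (fun l => act b l M) (b.repr x) := by
  have h : (LinearMap.applyₗ (z M)).comp (ρ b) =
      (linearCombination R (fun l => act b l M)).comp b.repr.toLinearMap := by
    refine b.ext fun i => ?_
    simp [ρ_b]
  exact LinearMap.congr_fun h x

lemma ρ_of_le {i : ι} {M : Multiset ι} (h : ∀ j ∈ M, i ≤ j) : ρ b (b i) (z M) = z (i ::ₘ M) := by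
  rw [ρ_b, act_of_le b h]

lemma key {i j : ι} {N : Multiset ι} (hji : j < i) (hjN : ∀ k ∈ N, j ≤ k) :
    ρ b (b i) (z (j ::ₘ N)) = ρ b (b j) (ρ b (b i) (z N)) + ρ b ⁅b i, b j⁆ (z N) := by
  have h : ¬ ∀ k ∈ j ::ₘ N, i ≤ k := fun h => (h j (Multiset.mem_cons_self _ _)).not_gt hji
  obtain ⟨hM, hle, hlt⟩ := (exists_min h).choose_spec
  have hj : (exists_min h).choose = j := by
    rcases Multiset.mem_cons.1 hM with e | e
    · exact e
    · exact le_antisymm (hle j (Multiset.mem_cons_self _ _)) (hjN _ e)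
  have e1 : ρ b (b i) (z (j ::ₘ N)) = A b (N.card + 1) i (j ::ₘ N) := by
    rw [ρ_b, A_eq_act]
    rw [Multiset.card_cons]
  rw [e1, A, dif_neg h, hj, Multiset.erase_cons_head, ρ_b, A_eq_act b i N _ le_rfl, ρ_z,
    show (fun l => A b N.card l N) = fun l => act b l N from rfl]
  have e2 : linearCombination R (A b N.card j) (act b i N - z (i ::ₘ N)) =
      ρ b (b j) (act b i N - z (i ::ₘ N)) :=
    eq_on_degLE (fun K hK => by rw [lc_z, ρ_b, A_eq_act b j K _ hK]) (act_sub_mem b i N)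
  have e3 : ρ b (b j) (z (i ::ₘ N)) = z (i ::ₘ j ::ₘ N) := by
    rw [ρ_of_le b (by simpa [hji.le] using hjN), Multiset.cons_swap]
  rw [e2, map_sub, e3]
  abel

lemma comm_extend {v : Multiset ι →₀ R}
    (h : ∀ i j, ρ b (b i) (ρ b (b j) v) - ρ b (b j) (ρ b (b i) v) = ρ b ⁅b i, b j⁆ v) (x y : L) :
    ρ b x (ρ b y v) - ρ b y (ρ b x v) = ρ b ⁅x, y⁆ v := by
  let B : L →ₗ[R] L →ₗ[R] (Multiset ι →₀ R) := LinearMap.mk₂ R
    (fun x y => ρ b x (ρ b y v) - ρ b y (ρ b x v) - ρ b ⁅x, y⁆ v)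
    (fun _ _ _ => by simp [add_lie]; abel) (fun _ _ _ => by simp [smul_sub])
    (fun _ _ _ => by simp [lie_add]; abel) (fun _ _ _ => by simp [smul_sub])
  have : B = 0 := b.ext fun i => b.ext fun j => sub_eq_zero.2 (h i j)
  exact sub_eq_zero.1 (LinearMap.congr_fun₂ this x y)

lemma comm_basis (N : Multiset ι) : ∀ i j,
    ρ b (b i) (ρ b (b j) (z N)) - ρ b (b j) (ρ b (b i) (z N)) = ρ b ⁅b i, b j⁆ (z N) := by
  induction hn : N.card using Nat.strong_induction_on generalizing N with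
  | _ n ih =>
  subst hn
  intro i j
  rcases eq_or_ne i j with rfl | hij
  · simp
  by_cases h1 : j < i ∧ ∀ k ∈ N, j ≤ k
  · rw [ρ_of_le b h1.2, key b h1.1 h1.2, add_sub_cancel_left]
  by_cases h2 : i < j ∧ ∀ k ∈ N, i ≤ k
  · rw [ρ_of_le b h2.2, key b h2.1 h2.2, ← lie_skew (b i) (b j), map_neg, LinearMap.neg_apply]
    abel
  obtain ⟨l, hlN, hle, hli, hlj⟩ : ∃ l ∈ N, (∀ k ∈ N, l ≤ k) ∧ l < i ∧ l < j := by
    rcases lt_or_gt_of_ne hij with h | h
    · obtain ⟨l, hl, hle, hlt⟩ := exists_min (fun hk => h2 ⟨h, hk⟩)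
      exact ⟨l, hl, hle, hlt, hlt.trans h⟩
    · obtain ⟨l, hl, hle, hlt⟩ := exists_min (fun hk => h1 ⟨h, hk⟩)
      exact ⟨l, hl, hle, hlt.trans h, hlt⟩
  obtain ⟨P, rfl⟩ := Multiset.exists_cons_of_mem hlN
  have hlP : ∀ k ∈ P, l ≤ k := fun k hk => hle k (Multiset.mem_cons_of_mem hk)
  have hP : ∀ x y : L, ρ b x (ρ b y (z P)) - ρ b y (ρ b x (z P)) = ρ b ⁅x, y⁆ (z P) :=
    comm_extend b (ih P.card (by simp) P rfl)
  have swap : ∀ a c : ι, l < a → l < c → ρ b (b a) (ρ b (b l) (ρ b (b c) (z P))) =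
      ρ b (b l) (ρ b (b a) (ρ b (b c) (z P))) + ρ b ⁅b a, b l⁆ (ρ b (b c) (z P)) := by
    intro a c ha hc
    have hc' : ∀ k ∈ c ::ₘ P, l ≤ k := by simpa [hc.le] using hlP
    have e1 : ρ b (b a) (ρ b (b l) (z (c ::ₘ P))) =
        ρ b (b l) (ρ b (b a) (z (c ::ₘ P))) + ρ b ⁅b a, b l⁆ (z (c ::ₘ P)) := by
      rw [ρ_of_le b hc', key b ha hc']
    have e2 : ((ρ b (b a)) ∘ₗ (ρ b (b l))) (act b c P - z (c ::ₘ P)) =
        ((ρ b (b l)) ∘ₗ (ρ b (b a)) + ρ b ⁅b a, b l⁆) (act b c P - z (c ::ₘ P)) :=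
      eq_on_degLE (fun K hK => by
        have := ih K.card (by simp; omega) K rfl a l
        rw [sub_eq_iff_eq_add'] at this
        exact this) (act_sub_mem b c P)
    simp only [LinearMap.comp_apply, LinearMap.add_apply, map_sub, e1] at e2
    rw [ρ_b b c P]
    linear_combination (norm := module) e2
  have hlz : z (l ::ₘ P) = ρ b (b l) (z P) := (ρ_of_le b hlP).symm
  have E : ∀ a c : ι, l < a → l < c → ρ b (b a) (ρ b (b c) (z (l ::ₘ P))) =
      ρ b (b l) (ρ b (b a) (ρ b (b c) (z P))) + ρ b ⁅b a, b l⁆ (ρ b (b c) (z P)) +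
        ρ b (b a) (ρ b ⁅b c, b l⁆ (z P)) := by
    intro a c ha hc
    rw [hlz, sub_eq_iff_eq_add'.1 (hP (b c) (b l)), map_add, swap a c ha hc]
  have F := hP (b i) (b j)
  have F' : ρ b (b l) (ρ b (b i) (ρ b (b j) (z P))) - ρ b (b l) (ρ b (b j) (ρ b (b i) (z P))) =
      ρ b (b l) (ρ b ⁅b i, b j⁆ (z P)) := by rw [← map_sub, F]
  have G := hP ⁅b i, b l⁆ (b j)
  have G' := hP (b i) ⁅b j, b l⁆
  have T : ρ b ⁅b i, b j⁆ (z (l ::ₘ P)) =
      ρ b (b l) (ρ b ⁅b i, b j⁆ (z P)) + ρ b ⁅⁅b i, b j⁆, b l⁆ (z P) := by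
    rw [hlz]; exact sub_eq_iff_eq_add'.1 (hP _ _)
  have J : ⁅⁅b i, b j⁆, b l⁆ = ⁅⁅b i, b l⁆, b j⁆ + ⁅b i, ⁅b j, b l⁆⁆ := by
    rw [leibniz_lie (b i) (b j) (b l), ← lie_skew ⁅b i, b l⁆ (b j)]; abel
  rw [E i j hli hlj, E j i hlj hli, T, J, map_add, LinearMap.add_apply, ← G, ← G', ← F']
  abel

/-- the representation of the Lie algebra -/
noncomputable def ρLie : L →ₗ⁅R⁆ Module.End R (Multiset ι →₀ R) :=
  { ρ b with
    map_lie' := fun {x y} => by
      refine Finsupp.lhom_ext fun M r => ?_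
      have : single M r = r • z (R := R) M := by simp [z]
      rw [this, map_smul, map_smul]
      exact congrArg (r • ·) (comm_extend b (comm_basis b M) x y).symm }

/-- the ordered monomial -/
noncomputable def mon (M : Multiset ι) : UniversalEnvelopingAlgebra R L :=
  ((M.sort (· ≤ ·)).map fun i => UniversalEnvelopingAlgebra.ι R (b i)).prod

lemma mon_cons {i : ι} {M : Multiset ι} (h : ∀ j ∈ M, i ≤ j) :
    mon b (i ::ₘ M) = UniversalEnvelopingAlgebra.ι R (b i) * mon b M := by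
  rw [mon, Multiset.sort_cons, List.map_cons, List.prod_cons]
  · rfl
  · exact h

/-- from monomials to the enveloping algebra -/
noncomputable def Φ : (Multiset ι →₀ R) →ₗ[R] UniversalEnvelopingAlgebra R L := linearCombination R (mon b)

lemma Φ_z (M : Multiset ι) : Φ b (z M) = mon b M := lc_z _ M

lemma Φ_extend {v : Multiset ι →₀ R}
    (h : ∀ i, Φ b (ρ b (b i) v) = UniversalEnvelopingAlgebra.ι R (b i) * Φ b v) (x : L) :
    Φ b (ρ b x v) = UniversalEnvelopingAlgebra.ι R x * Φ b v := by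
  have : ((Φ b) ∘ₗ (LinearMap.applyₗ v) ∘ₗ (ρ b)) =
      (LinearMap.mulRight R (Φ b v)) ∘ₗ ((UniversalEnvelopingAlgebra.ι R : L →ₗ⁅R⁆ _) : L →ₗ[R] _) :=
    b.ext h
  exact LinearMap.congr_fun this x

lemma Φ_basis (N : Multiset ι) : ∀ i,
    Φ b (ρ b (b i) (z N)) = UniversalEnvelopingAlgebra.ι R (b i) * Φ b (z N) := by
  induction hn : N.card using Nat.strong_induction_on generalizing N with
  | _ n ih =>
  subst hn
  intro i
  by_cases h : ∀ j ∈ N, i ≤ j
  · rw [ρ_of_le b h, Φ_z, Φ_z, mon_cons b h]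
  obtain ⟨j, hjN, hle, hji⟩ := exists_min h
  obtain ⟨P, rfl⟩ := Multiset.exists_cons_of_mem hjN
  have hjP : ∀ k ∈ P, j ≤ k := fun k hk => hle k (Multiset.mem_cons_of_mem hk)
  have hiP : ∀ k ∈ i ::ₘ P, j ≤ k := by simpa [hji.le] using hjP
  have hw : Φ b (ρ b (b j) (act b i P - z (i ::ₘ P))) =
      UniversalEnvelopingAlgebra.ι R (b j) * Φ b (act b i P - z (i ::ₘ P)) :=
    eq_on_degLE (f := (Φ b) ∘ₗ (ρ b (b j)))
      (g := (LinearMap.mulLeft R (UniversalEnvelopingAlgebra.ι R (b j))) ∘ₗ (Φ b))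
      (fun K hK => ih K.card (by simp; omega) K rfl j) (act_sub_mem b i P)
  have htop : Φ b (ρ b (b j) (z (i ::ₘ P))) = UniversalEnvelopingAlgebra.ι R (b j) * Φ b (z (i ::ₘ P)) := by
    rw [ρ_of_le b hiP, Φ_z, Φ_z, mon_cons b hiP]
  have hall : Φ b (ρ b (b j) (act b i P)) = UniversalEnvelopingAlgebra.ι R (b j) * Φ b (act b i P) := by
    simp only [map_sub, mul_sub, htop] at hw
    linear_combination (norm := module) hw
  rw [key b hji hjP, map_add, ρ_b b i P, hall, ← ρ_b b i P, ih P.card (by simp) P rfl i,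
    Φ_extend b (ih P.card (by simp) P rfl), Φ_z, Φ_z, mon_cons b hjP, LieHom.map_lie,
    LieRing.of_associative_ring_bracket, sub_mul, mul_assoc, mul_assoc]
  abel

lemma Φ_lift (u : UniversalEnvelopingAlgebra R L) (v : Multiset ι →₀ R) :
    Φ b (UniversalEnvelopingAlgebra.lift R (ρLie b) u v) = u * Φ b v := by
  obtain ⟨t, rfl⟩ : ∃ t, UniversalEnvelopingAlgebra.mkAlgHom R L t = u := RingCon.mk'_surjective _ u
  induction t using TensorAlgebra.induction generalizing v with
  | algebraMap r => simp [Algebra.algebraMap_eq_smul_one]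
  | ι x =>
    rw [UniversalEnvelopingAlgebra.lift_ι_apply']
    change Φ b (ρ b x v) = UniversalEnvelopingAlgebra.ι R x * Φ b v
    refine Φ_extend b (fun i => ?_) x
    have : (Φ b) ∘ₗ (ρ b (b i)) = (LinearMap.mulLeft R (UniversalEnvelopingAlgebra.ι R (b i))) ∘ₗ (Φ b) :=
      Finsupp.lhom_ext fun M r => by
        rw [show single M r = r • z (R := R) M by simp [z], map_smul, map_smul]
        exact congrArg (r • ·) (Φ_basis b M i)
    exact LinearMap.congr_fun this v
  | mul a c ha hc => simp only [map_mul, Module.End.mul_apply, ha, hc, mul_assoc]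
  | add a c ha hc => simp only [map_add, LinearMap.add_apply, ha, hc, add_mul]

/-- from the enveloping algebra to monomials -/
noncomputable def Ψ : UniversalEnvelopingAlgebra R L →ₗ[R] (Multiset ι →₀ R) :=
  (LinearMap.applyₗ (z 0)) ∘ₗ (UniversalEnvelopingAlgebra.lift R (ρLie b)).toLinearMap

lemma Φ_Ψ (u : UniversalEnvelopingAlgebra R L) : Φ b (Ψ b u) = u := by
  change Φ b (UniversalEnvelopingAlgebra.lift R (ρLie b) u (z 0)) = u
  rw [Φ_lift, Φ_z, mon, Multiset.sort_zero, List.map_nil, List.prod_nil, mul_one]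

lemma Ψ_list : ∀ l : List ι, l.Pairwise (· ≤ ·) →
    Ψ b (l.map fun i => UniversalEnvelopingAlgebra.ι R (b i)).prod = z (l : Multiset ι)
  | [], _ => by simp [Ψ]
  | a :: t, h => by
    rw [List.pairwise_cons] at h
    rw [List.map_cons, List.prod_cons, ← Multiset.cons_coe, ← ρ_of_le b (i := a) (M := (t : Multiset ι)) h.1,
      ← Ψ_list t h.2]
    simp only [Ψ, LinearMap.comp_apply, AlgHom.toLinearMap_apply, map_mul, LinearMap.applyₗ_apply_apply,
      Module.End.mul_apply, UniversalEnvelopingAlgebra.lift_ι_apply]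
    rfl

/-- monomials are the enveloping algebra -/
noncomputable def monEquiv : (Multiset ι →₀ R) ≃ₗ[R] UniversalEnvelopingAlgebra R L :=
  LinearEquiv.ofLinearMap (Φ b) (Ψ b) (LinearMap.ext (Φ_Ψ b)) (Finsupp.lhom_ext fun M r => by
    rw [show single M r = r • z (R := R) M by simp [z], map_smul, map_smul, LinearMap.comp_apply, Φ_z,
      LinearMap.id_apply, mon, Ψ_list b _ (Multiset.pairwise_sort _ _), Multiset.sort_eq])

lemma sort_coe {l : List ι} (h : l.Pairwise (· ≤ ·)) : (l : Multiset ι).sort (· ≤ ·) = l :=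
  List.Perm.eq_of_pairwise' (r := (· ≤ ·)) ((l : Multiset ι).pairwise_sort (· ≤ ·)) h
    (Multiset.coe_eq_coe.1 (Multiset.sort_eq (l : Multiset ι) (· ≤ ·)))

/-- sorted lists are multisets -/
noncomputable def sortEquiv : Multiset ι ≃ {l : List ι // l.SortedLE} where
  toFun M := ⟨M.sort (· ≤ ·), (Multiset.pairwise_sort _ _).sortedLE⟩
  invFun l := (l.1 : Multiset ι)
  left_inv M := Multiset.sort_eq _ _
  right_inv l := Subtype.ext (sort_coe l.2.pairwise)

/-- the PBW basis -/
noncomputable def basis : Module.Basis {l : List ι // l.SortedLE} R (UniversalEnvelopingAlgebra R L) :=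
  (Finsupp.basisSingleOne.map (monEquiv b)).reindex sortEquiv

lemma basis_apply (l : {l : List ι // l.SortedLE}) :
    basis b l = (l.1.map fun i => UniversalEnvelopingAlgebra.ι R (b i)).prod := by
  rw [basis, Module.Basis.reindex_apply, Module.Basis.map_apply, Finsupp.coe_basisSingleOne]
  change Φ b (z (sortEquiv.symm l)) = _
  rw [Φ_z, mon]
  rw [show sortEquiv.symm l = (l.1 : Multiset ι) from rfl, sort_coe l.2.pairwise]

end Groth.Agent.PBWLib
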